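/-
Coset enumeration certificate: the assembled result.
-/
import Cfsg.Agent.Lib.Spor.Mults.McLaughlin.Enum5.Part0
import Cfsg.Agent.Lib.Spor.Mults.McLaughlin.Enum5.Part1
import Cfsg.Agent.Lib.Spor.Mults.McLaughlin.Enum5.Part2
import Cfsg.Agent.Lib.Spor.Mults.McLaughlin.Enum5.Part3
import Cfsg.Agent.Lib.Spor.Mults.McLaughlin.Enum5.Part4
import Cfsg.Agent.Lib.Spor.Mults.McLaughlin.Enum5.Part5
import Cfsg.Agent.Lib.Spor.Mults.McLaughlin.Enum5.Part6
import Cfsg.Agent.Lib.Spor.Mults.McLaughlin.Enum5.Part7
import Cfsg.Agent.Lib.Spor.Mults.McLaughlin.Enum5.Part8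
import Cfsg.Agent.Lib.Spor.Mults.McLaughlin.Enum5.Part9
import Cfsg.Agent.Lib.Spor.Mults.McLaughlin.Enum5.Part10

namespace CfsgLib.Spor.Mults.McLaughlin.Enum5

open CfsgLib.Spor.TC

theorem steps_ok : cert.StepsWideOK 0 103007 :=
  ((((((((((((((((((((((((((((((steps0.append _ steps3523).append _ steps7085).append _ steps10703).append _ steps14245).append _ steps17764).append _ steps21291).append _ steps24830).append _ steps28403).append _ steps31973).append _ steps35560).append _ steps38996).append _ steps42434).append _ steps45919).append _ steps49218).append _ steps52689).append _ steps56078).append _ steps59605).append _ steps63133).append _ steps66645).append _ steps69821).append _ steps72998).append _ steps76339).append _ steps79794).append _ steps83100).append _ steps86246).append _ steps88973).append _ steps92091).append _ steps95516).append _ steps98993).append _ steps101572)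

theorem rows_ok : cert.RowsOK 103007 2025 0 2025 :=
  (rows0.append _ rows1740)

theorem row_zero : cert.rowNode 0 = 0 := by decide +kernel

end CfsgLib.Spor.Mults.McLaughlin.Enum5
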